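import Groth.Agent.FixedSmooth.Split
import Groth.Prelude.Def_SGA3x
import Groth.Prelude.Def_ActBC
/-!
Base change of groups of multiplicative type.
-/

set_option autoImplicit false
set_option backward.isDefEq.respectTransparency false
set_option backward.isDefEq.respectTransparency.types false
set_option linter.style.haveILetI false

universe u

open CategoryTheory CategoryTheory.Limits MonoidalCategory CartesianMonoidalCategory MonObj AlgebraicGeometry

noncomputable section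

namespace Groth.Agent.HomDesc

open FixedSmooth

variable {S S' S'' : Scheme.{u}}

/-- The identification of iterated restrictions of scalars. -/
def mapAssoc (f : S'' ⟶ S') (g : S' ⟶ S) {d : S'' ⟶ S} (h : f ≫ g = d) (Y : Over S'') :
    (Over.map d).obj Y ≅ (Over.map g).obj ((Over.map f).obj Y) :=
  Over.isoMk (Iso.refl Y.left) (by
    show 𝟙 _ ≫ (Y.hom ≫ f) ≫ g = Y.hom ≫ d
    rw [Category.id_comp, Category.assoc, h])

theorem symm_comp_bcCompIso (f : S'' ⟶ S') (g : S' ⟶ S) {d : S'' ⟶ S} (h : f ≫ g = d) (H : Over S) [GrpObj H]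
    (Y : Over S'') (k : Y ⟶ Red.bc f (Red.bc g H)) :
    (adjEquiv d H Y).symm (k ≫ (ActBC.bcCompIso f g H h).hom) =
      (mapAssoc f g h Y).hom ≫ (adjEquiv g H _).symm ((adjEquiv f (Red.bc g H) Y).symm k) := by
  ext
  show ((Over.map d).map (k ≫ (ActBC.bcCompIso f g H h).hom) ≫ (Over.mapPullbackAdj d).counit.app H).left =
    𝟙 _ ≫ ((Over.map g).map ((Over.map f).map k ≫ (Over.mapPullbackAdj f).counit.app (Red.bc g H)) ≫
      (Over.mapPullbackAdj g).counit.app H).left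
  simp

theorem isMonHom_bcCompIso (f : S'' ⟶ S') (g : S' ⟶ S) {d : S'' ⟶ S} (h : f ≫ g = d) (H : Over S) [GrpObj H] :
    IsMonHom (ActBC.bcCompIso f g H h).hom := by
  have hmul : ∀ (Y : Over S'') (k k' : Y ⟶ Red.bc f (Red.bc g H)),
      (k * k') ≫ (ActBC.bcCompIso f g H h).hom =
        (k ≫ (ActBC.bcCompIso f g H h).hom) * (k' ≫ (ActBC.bcCompIso f g H h).hom) := fun Y k k' => by
    apply (adjEquiv d H Y).symm.injective
    rw [map_mul, symm_comp_bcCompIso, symm_comp_bcCompIso, symm_comp_bcCompIso, map_mul, map_mul, MonObj.comp_mul]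
  constructor
  · have h1 := hmul _ (1 : 𝟙_ (Over S'') ⟶ Red.bc f (Red.bc g H)) 1
    rw [_root_.one_mul, left_eq_mul] at h1
    rw [MonObj.one_eq_one, MonObj.one_eq_one]
    exact h1
  · have h1 := hmul _ (fst (Red.bc f (Red.bc g H)) (Red.bc f (Red.bc g H))) (snd _ _)
    rw [MonObj.mul_eq_mul, MonObj.mul_eq_mul, MonObj.comp_mul, tensorHom_fst, tensorHom_snd]
    exact h1

/-- Iterated base change of a group. -/
def bcGrpIso (f : S'' ⟶ S') (g : S' ⟶ S) {d : S'' ⟶ S} (h : f ≫ g = d) (H : Over S) [GrpObj H] :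
    Grp.mk (Red.bc f (Red.bc g H)) ≅ Grp.mk (Red.bc d H) :=
  haveI := isMonHom_bcCompIso f g h H
  Grp.mkIso' (ActBC.bcCompIso f g H h)

theorem isMultTypeFT_bc {T : Scheme.{u}} (g : T ⟶ S) {H : Over S} [GrpObj H] (hH : SGA3x.IsMultTypeFT H) :
    SGA3x.IsMultTypeFT (Red.bc g H) := by
  obtain ⟨S', f, hflat, hsurj, hqc, hloc⟩ := hH
  haveI : QuasiCompactCover (PreZeroHypercover.singleton.{0} f) := ⟨fun {V} hV => by
    obtain ⟨W, hWc, hW⟩ := hqc V hV
    exact ⟨Set.univ, Set.finite_univ, fun _ _ => W, fun _ _ => hWc, by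
      ext y
      simp only [Set.mem_iUnion]
      exact ⟨fun ⟨_, _, hy⟩ => hW.subset hy, fun hy => ⟨PUnit.unit, trivial, hW.superset hy⟩⟩⟩⟩
  refine ⟨pullback f g, pullback.snd f g, inferInstance, inferInstance, fun V hV => ?_, fun x => ?_⟩
  · obtain ⟨s, hs, W, hWc, hW⟩ := hV.isCompactOpenCovered ((PreZeroHypercover.singleton.{0} f).pullback₂ g)
    by_cases he : PUnit.unit ∈ s
    · refine ⟨W _ he, hWc _ he, Eq.trans ?_ hW⟩
      ext y
      simp only [Set.mem_iUnion]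
      exact ⟨fun hy => ⟨PUnit.unit, he, hy⟩, fun ⟨⟨⟩, _, hy⟩ => hy⟩
    · refine ⟨⊥, by simp, Eq.trans ?_ hW⟩
      ext y
      simp only [Set.mem_iUnion]
      exact ⟨fun hy => by simp at hy, fun ⟨⟨⟩, hi, _⟩ => absurd hi he⟩
  · obtain ⟨U, hxU, M, iM, hM, ⟨e⟩⟩ := hloc (pullback.fst f g x)
    letI := iM
    let O := pullback.fst f g ⁻¹ᵁ U
    let q : O.toScheme ⟶ U.toScheme := (pullback.fst f g).resLE U O le_rfl
    refine ⟨O, hxU, M, iM, hM, ⟨?_⟩⟩
    have h1 : (O.ι ≫ pullback.snd f g) ≫ g = q ≫ U.ι ≫ f := by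
      rw [Category.assoc, ← pullback.condition, ← Category.assoc, ← Scheme.Hom.resLE_comp_ι (e := le_rfl), Category.assoc]
    exact bcGrpIso _ g h1 H ≪≫ (bcGrpIso q (U.ι ≫ f) rfl H).symm ≪≫
      (Over.pullback q).mapGrp.mapIso e ≪≫
      bcGrpIso q _ (Limits.IsTerminal.hom_ext specULiftZIsTerminal _ _) (Red.diag (ULift.{u} ℤ) M)

end Groth.Agent.HomDesc
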